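import Mathlib
import Cfsg.Prelude.Def_Solvable
import Cfsg.Prelude.Def_Transfer
import Cfsg.Agent.Lib.Helper28.PCore
import Cfsg.Agent.Lib.Helper28.Extra

set_option autoImplicit false

namespace Cfsg.Agent.Lib.Helper28

open Cfsg
open scoped commutatorElement

/-- The largest normal `2`-subgroup of the centralizer of `x`, inside the ambient group. -/
def Qc {G : Type*} [Group G] (x : G) : Subgroup G :=
  (pCore 2 ↥(Subgroup.centralizer ({x} : Set G))).map (Subgroup.centralizer ({x} : Set G)).subtype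

theorem pCore_map_equiv_le {H H' : Type*} [Group H] [Group H'] [Finite H] (e : H ≃* H') :
    (pCore 2 H).map e.toMonoidHom ≤ pCore 2 H' := by
  haveI : Fact (Nat.Prime 2) := ⟨Nat.prime_two⟩
  haveI : ((pCore 2 H).map e.toMonoidHom).Normal :=
    (pCore_normal (G := H) (p := 2)).map _ e.surjective
  exact le_pCore _ ((pCore_isPGroup (G := H) (p := 2)).map _)

/-- Conjugation by `g` as an isomorphism between centralizers. -/
def conjCent {G : Type*} [Group G] (g z : G) :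
    ↥(Subgroup.centralizer ({z} : Set G)) ≃* ↥(Subgroup.centralizer ({g * z * g⁻¹} : Set G)) where
  toFun y := ⟨g * y * g⁻¹, by
    rw [Subgroup.mem_centralizer_iff]
    intro h hh
    rw [Set.mem_singleton_iff] at hh
    have := (Subgroup.mem_centralizer_iff.mp y.2) z (Set.mem_singleton z)
    rw [hh]
    calc g * z * g⁻¹ * (g * y * g⁻¹) = g * (z * y) * g⁻¹ := by group
      _ = g * (y * z) * g⁻¹ := by rw [this]
      _ = g * y * g⁻¹ * (g * z * g⁻¹) := by group⟩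
  invFun y := ⟨g⁻¹ * y * g, by
    rw [Subgroup.mem_centralizer_iff]
    intro h hh
    rw [Set.mem_singleton_iff] at hh
    have := (Subgroup.mem_centralizer_iff.mp y.2) (g * z * g⁻¹) (Set.mem_singleton _)
    rw [hh]
    calc z * (g⁻¹ * y * g) = g⁻¹ * ((g * z * g⁻¹) * y) * g := by group
      _ = g⁻¹ * (y * (g * z * g⁻¹)) * g := by rw [this]
      _ = g⁻¹ * y * g * z := by group⟩
  left_inv y := by
    apply Subtype.ext
    simp [mul_assoc]
  right_inv y := by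
    apply Subtype.ext
    simp [mul_assoc]
  map_mul' a b := by
    apply Subtype.ext
    simp [mul_assoc]

theorem Qc_conj {G : Type*} [Group G] [Finite G] (g z x : G) (hx : x ∈ Qc z) :
    g * x * g⁻¹ ∈ Qc (g * z * g⁻¹) := by
  obtain ⟨y, hy, rfl⟩ := hx
  exact ⟨conjCent g z y, pCore_map_equiv_le (conjCent g z) ⟨y, hy, rfl⟩, rfl⟩

theorem Qc_conj' {G : Type*} [Group G] [Finite G] (g z x : G) (hx : x ∈ Qc (g * z * g⁻¹)) :
    g⁻¹ * x * g ∈ Qc z := by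
  have h := Qc_conj g⁻¹ (g * z * g⁻¹) x hx
  have e : g⁻¹ * (g * z * g⁻¹) * g⁻¹⁻¹ = z := by group
  rw [e, inv_inv] at h
  exact h

theorem Qc_le_centralizer {G : Type*} [Group G] (z : G) {x : G} (hx : x ∈ Qc z) :
    z * x = x * z := by
  obtain ⟨y, -, rfl⟩ := hx
  exact (Subgroup.mem_centralizer_iff.mp y.2) z (Set.mem_singleton z)

/-- Basic data of a large extraspecial `2`-subgroup `O₂(C(z))`. -/
theorem les_center {G : Type*} [Group G] (z : G) (hz : orderOf z = 2)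
    (hE : IsExtraspecial 2 ↥(Qc z))
    (hC : Subgroup.centralizer ((Qc z : Subgroup G) : Set G) ≤ Qc z) :
    z ∈ Qc z ∧ z ∈ (Subgroup.center ↥(Qc z)).map (Qc z).subtype ∧
      ∀ x ∈ (Subgroup.center ↥(Qc z)).map (Qc z).subtype, x = 1 ∨ x = z := by
  have hzQ : z ∈ Qc z := by
    apply hC
    rw [Subgroup.mem_centralizer_iff]
    intro h hh
    exact (Qc_le_centralizer z hh).symm
  have hzZ : z ∈ (Subgroup.center ↥(Qc z)).map (Qc z).subtype := by
    refine ⟨⟨z, hzQ⟩, ?_, rfl⟩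
    rw [SetLike.mem_coe, Subgroup.mem_center_iff]
    intro q
    apply Subtype.ext
    exact (Qc_le_centralizer z q.2).symm
  obtain ⟨z', -, -, -, -, -, hall⟩ := extraspecial_center (Qc z) hE
  have hz1 : z ≠ 1 := by
    intro h
    rw [h, orderOf_one] at hz
    norm_num at hz
  have hzz' : z = z' := by
    rcases hall z hzZ with h | h
    · exact absurd h hz1
    · exact h
  rw [← hzz'] at hall
  exact ⟨hzQ, hzZ, hall⟩

/-- Commutators in an extraspecial `2`-subgroup are trivial or the central involution. -/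
theorem les_comm {G : Type*} [Group G] (Q : Subgroup G) (hE : IsExtraspecial 2 ↥Q) {z : G}
    (hzall : ∀ x ∈ (Subgroup.center ↥Q).map Q.subtype, x = 1 ∨ x = z) {a b : G} (ha : a ∈ Q)
    (hb : b ∈ Q) : a * b * a⁻¹ * b⁻¹ = 1 ∨ a * b * a⁻¹ * b⁻¹ = z := by
  have hcomm := hE.1.2.2
  have hc : ⁅(⟨a, ha⟩ : ↥Q), (⟨b, hb⟩ : ↥Q)⁆ ∈ commutator ↥Q :=
    Subgroup.commutator_mem_commutator (Subgroup.mem_top _) (Subgroup.mem_top _)
  rw [hcomm] at hc
  have hc' : ((⁅(⟨a, ha⟩ : ↥Q), (⟨b, hb⟩ : ↥Q)⁆ : ↥Q) : G)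
      ∈ (Subgroup.center ↥Q).map Q.subtype := ⟨_, hc, rfl⟩
  have hval : ((⁅(⟨a, ha⟩ : ↥Q), (⟨b, hb⟩ : ↥Q)⁆ : ↥Q) : G) = a * b * a⁻¹ * b⁻¹ := by
    rw [commutatorElement_def]
    simp
  rw [hval] at hc'
  exact hzall _ hc'

/-- In the large extraspecial setting: for a conjugate `u` of `z` and `v ∈ Q u` other than `1, u`,
some element of `Q u` conjugates `v` to `u v`. -/
theorem les_conj {G : Type*} [Group G] [Finite G] (z : G) (hz : orderOf z = 2)
    (hE : IsExtraspecial 2 ↥(Qc z))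
    (hC : Subgroup.centralizer ((Qc z : Subgroup G) : Set G) ≤ Qc z) (g v : G)
    (hv : v ∈ Qc (g * z * g⁻¹)) (hv1 : v ≠ 1) (hvu : v ≠ g * z * g⁻¹) :
    ∃ q ∈ Qc (g * z * g⁻¹), q * v * q⁻¹ = (g * z * g⁻¹) * v := by
  obtain ⟨hzQ, hzZ, hall⟩ := les_center z hz hE hC
  have hv₀ : g⁻¹ * v * g ∈ Qc z := Qc_conj' g z v hv
  have hv₀Z : g⁻¹ * v * g ∉ (Subgroup.center ↥(Qc z)).map (Qc z).subtype := by
    intro h
    rcases hall _ h with h1 | h1
    · apply hv1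
      calc v = g * (g⁻¹ * v * g) * g⁻¹ := by group
        _ = 1 := by rw [h1]; group
    · apply hvu
      calc v = g * (g⁻¹ * v * g) * g⁻¹ := by group
        _ = g * z * g⁻¹ := by rw [h1]
  obtain ⟨q₀, hq₀, hq₀v⟩ := extraspecial_conj (Qc z) hE hall hv₀ hv₀Z
  refine ⟨g * q₀ * g⁻¹, Qc_conj g z q₀ hq₀, ?_⟩
  calc g * q₀ * g⁻¹ * v * (g * q₀ * g⁻¹)⁻¹ = g * (q₀ * (g⁻¹ * v * g) * q₀⁻¹) * g⁻¹ := by group
    _ = g * (z * (g⁻¹ * v * g)) * g⁻¹ := by rw [hq₀v]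
    _ = g * z * g⁻¹ * v := by group

/-- Commutators in `Q u` for a conjugate `u` of `z`. -/
theorem les_comm_conj {G : Type*} [Group G] [Finite G] (z : G) (hz : orderOf z = 2)
    (hE : IsExtraspecial 2 ↥(Qc z))
    (hC : Subgroup.centralizer ((Qc z : Subgroup G) : Set G) ≤ Qc z) (g a b : G)
    (ha : a ∈ Qc (g * z * g⁻¹)) (hb : b ∈ Qc (g * z * g⁻¹)) :
    a * b * a⁻¹ * b⁻¹ = 1 ∨ a * b * a⁻¹ * b⁻¹ = g * z * g⁻¹ := by
  obtain ⟨hzQ, hzZ, hall⟩ := les_center z hz hE hC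
  have ha₀ := Qc_conj' g z a ha
  have hb₀ := Qc_conj' g z b hb
  rcases les_comm (Qc z) hE hall ha₀ hb₀ with h | h
  · left
    calc a * b * a⁻¹ * b⁻¹
        = g * ((g⁻¹ * a * g) * (g⁻¹ * b * g) * (g⁻¹ * a * g)⁻¹ * (g⁻¹ * b * g)⁻¹) * g⁻¹ := by
          group
      _ = 1 := by rw [h]; group
  · right
    calc a * b * a⁻¹ * b⁻¹
        = g * ((g⁻¹ * a * g) * (g⁻¹ * b * g) * (g⁻¹ * a * g)⁻¹ * (g⁻¹ * b * g)⁻¹) * g⁻¹ := by
          group
      _ = g * z * g⁻¹ := by rw [h]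

/-- For two distinct conjugates `u, v` of `z` with `v ∈ Q u` and `u ∈ Q (u v)`:
`Q u ⊓ Q v ≤ Q (u v)`. -/
theorem les_inter {G : Type*} [Group G] [Finite G] (z : G) (hz : orderOf z = 2)
    (hE : IsExtraspecial 2 ↥(Qc z))
    (hC : Subgroup.centralizer ((Qc z : Subgroup G) : Set G) ≤ Qc z) (g v : G)
    (hv : v ∈ Qc (g * z * g⁻¹)) (hv1 : v ≠ 1) (hvu : v ≠ g * z * g⁻¹)
    (huv : g * z * g⁻¹ ∈ Qc (g * z * g⁻¹ * v)) :
    Qc (g * z * g⁻¹) ⊓ Qc v ≤ Qc (g * z * g⁻¹ * v) := by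
  intro a ha
  obtain ⟨ha1, ha2⟩ := Subgroup.mem_inf.mp ha
  obtain ⟨q, hq, hqv⟩ := les_conj z hz hE hC g v hv hv1 hvu
  have h1 : q * a * q⁻¹ ∈ Qc (g * z * g⁻¹ * v) := by
    have := Qc_conj q v a ha2
    rw [hqv] at this
    exact this
  rcases les_comm_conj z hz hE hC g q a hq ha1 with h | h
  · have e : a = q * a * q⁻¹ := by
      calc a = (q * a * q⁻¹ * a⁻¹)⁻¹ * (q * a * q⁻¹) := by group
        _ = q * a * q⁻¹ := by rw [h]; group
    rw [e]
    exact h1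
  · have e : a = (g * z * g⁻¹)⁻¹ * (q * a * q⁻¹) := by
      calc a = (q * a * q⁻¹ * a⁻¹)⁻¹ * (q * a * q⁻¹) := by group
        _ = (g * z * g⁻¹)⁻¹ * (q * a * q⁻¹) := by rw [h]
    rw [e]
    exact Subgroup.mul_mem _ (Subgroup.inv_mem _ huv) h1

end Cfsg.Agent.Lib.Helper28
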