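import Mathlib
import Cfsg.Prelude.Def_Transfer
import Cfsg.Agent.Lib.Helper28.Extra
import Cfsg.Agent.Lib.Helper28.LargeES
import Cfsg.Agent.Lib.Helper18.Coprime

set_option autoImplicit false

namespace Cfsg.Agent.Lib.Helper28

open Cfsg
open scoped commutatorElement

/-- In a finite `p`-group, `p`-th powers lie in the Frattini subgroup. -/
theorem pow_mem_frattini {W : Type*} [Group W] [Finite W] {p : ℕ} [hp : Fact p.Prime]
    (hW : IsPGroup p W) (x : W) : x ^ p ∈ frattini W := by
  have hnil := hW.isNilpotent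
  have key : ∀ M : Subgroup W, IsCoatom M → x ^ p ∈ M := by
    intro M hM
    by_contra hx
    have hMn : M.Normal :=
      Subgroup.NormalizerCondition.normal_of_coatom M Group.normalizerCondition_of_isNilpotent hM
    have htop : M ⊔ Subgroup.zpowers (x ^ p) = ⊤ := by
      apply hM.2
      refine lt_of_le_of_ne le_sup_left ?_
      intro h
      apply hx
      rw [h]
      exact le_sup_right (a := M) (Subgroup.mem_zpowers _)
    have hx' : x ∈ M ⊔ Subgroup.zpowers (x ^ p) := htop ▸ Subgroup.mem_top x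
    obtain ⟨m, hm, y, hy, hmy⟩ := Subgroup.mem_sup_of_normal_left.mp hx'
    obtain ⟨k, hk⟩ := Subgroup.mem_zpowers_iff.mp hy
    have h1 : x ^ (1 - (p : ℤ) * k) ∈ M := by
      have e : x ^ (1 - (p : ℤ) * k) = m := by
        rw [zpow_sub, zpow_one, zpow_mul, zpow_natCast, hk, ← hmy]
        group
      rw [e]; exact hm
    obtain ⟨n, hn⟩ := hW x
    have hcop : IsCoprime (1 - (p : ℤ) * k) ((p : ℤ) ^ n) := by
      apply IsCoprime.pow_right
      exact ⟨1, k, by ring⟩
    obtain ⟨u, v, huv⟩ := hcop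
    have hxn : x ^ ((p : ℤ) ^ n) = 1 := by
      have e : ((p : ℤ) ^ n) = ((p ^ n : ℕ) : ℤ) := by push_cast; rfl
      rw [e, zpow_natCast, hn]
    have e2 : x = (x ^ (1 - (p : ℤ) * k)) ^ u * (x ^ ((p : ℤ) ^ n)) ^ v := by
      rw [← zpow_mul, ← zpow_mul, ← zpow_add]
      have e3 : (1 - (p : ℤ) * k) * u + (p : ℤ) ^ n * v = 1 := by linarith
      rw [e3, zpow_one]
    have hxM : x ∈ M := by
      rw [e2, hxn, one_zpow, mul_one]
      exact M.zpow_mem h1 u
    exact hx (M.pow_mem hxM p)
  unfold frattini Order.radical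
  simp only [Subgroup.mem_iInf]
  exact key

/-- Squares in an extraspecial `2`-subgroup are central. -/
theorem es_sq {G : Type*} [Group G] [Finite G] (Q : Subgroup G) (hE : IsExtraspecial 2 ↥Q) {z : G}
    (hall : ∀ x ∈ (Subgroup.center ↥Q).map Q.subtype, x = 1 ∨ x = z) {a : G} (ha : a ∈ Q) :
    a * a = 1 ∨ a * a = z := by
  haveI : Fact (Nat.Prime 2) := ⟨Nat.prime_two⟩
  have h1 : (⟨a, ha⟩ : ↥Q) ^ 2 ∈ frattini ↥Q := pow_mem_frattini hE.1.1 _
  rw [hE.1.2.1] at h1
  apply hall
  refine ⟨_, h1, ?_⟩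
  simp [pow_two]

/-- An element of odd order whose commutator with `n` is a central involution or trivial
commutes with `n`. -/
theorem odd_comm_trivial {G : Type*} [Group G] {z a n : G} (hzz : z * z = 1)
    (haz : a * z = z * a) (hodd : Odd (orderOf a))
    (h : a * n * a⁻¹ * n⁻¹ = 1 ∨ a * n * a⁻¹ * n⁻¹ = z) : a * n * a⁻¹ * n⁻¹ = 1 := by
  obtain ⟨c, hc⟩ : ∃ c, c = a * n * a⁻¹ * n⁻¹ := ⟨_, rfl⟩
  rw [← hc] at h ⊢
  have hac : Commute a c := by
    rcases h with h | h
    · rw [h]; exact Commute.one_right a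
    · rw [h]; exact haz
  have hcc : c * c = 1 := by
    rcases h with h | h
    · rw [h]; simp
    · rw [h]; exact hzz
  have hpow : ∀ k : ℕ, a ^ k * n * (a ^ k)⁻¹ * n⁻¹ = c ^ k := by
    intro k
    induction k with
    | zero => simp
    | succ k ih =>
      have e : a ^ (k + 1) * n * (a ^ (k + 1))⁻¹ * n⁻¹ =
          a * (a ^ k * n * (a ^ k)⁻¹ * n⁻¹) * a⁻¹ * (a * n * a⁻¹ * n⁻¹) := by
        rw [pow_succ']; group
      rw [e, ih, ← hc]
      have e2 : a * c ^ k * a⁻¹ = c ^ k := by
        rw [(hac.pow_right k).eq]; group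
      rw [e2, pow_succ]
  have h1 := hpow (orderOf a)
  rw [pow_orderOf_eq_one] at h1
  obtain ⟨m, hm⟩ := hodd
  rw [hm, pow_succ, pow_mul, pow_two, hcc, one_pow] at h1
  have h2 : c = 1 * c := (one_mul c).symm
  rw [h2, ← h1]; group

/-- Products of permuted lists of elements of an extraspecial `2`-subgroup agree modulo the
centre. -/
theorem perm_prod_mod {G : Type*} [Group G] (Q : Subgroup G) {z : G} (hzz : z * z = 1)
    (hzc : ∀ q ∈ Q, z * q = q * z)
    (hcomm : ∀ a ∈ Q, ∀ b ∈ Q, a * b * a⁻¹ * b⁻¹ = 1 ∨ a * b * a⁻¹ * b⁻¹ = z)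
    {l₁ l₂ : List G} (h : l₁.Perm l₂) (hl : ∀ x ∈ l₁, x ∈ Q) :
    l₁.prod = l₂.prod ∨ l₁.prod = z * l₂.prod := by
  induction h with
  | nil => left; rfl
  | cons x _ ih =>
    rcases ih (fun y hy => hl y (List.mem_cons_of_mem _ hy)) with h | h
    · left; rw [List.prod_cons, List.prod_cons, h]
    · right
      rw [List.prod_cons, List.prod_cons, h, ← mul_assoc, ← mul_assoc,
        hzc x (hl x List.mem_cons_self)]
  | swap x y l =>
    have hx : x ∈ Q := hl x (by simp)
    have hy : y ∈ Q := hl y (by simp)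
    rw [List.prod_cons, List.prod_cons, List.prod_cons, List.prod_cons]
    rcases hcomm y hy x hx with h | h
    · left
      have e : y * x = x * y := by
        calc y * x = (y * x * y⁻¹ * x⁻¹) * (x * y) := by group
          _ = x * y := by rw [h, one_mul]
      rw [← mul_assoc, e, mul_assoc]
    · right
      have e : y * x = z * (x * y) := by
        calc y * x = (y * x * y⁻¹ * x⁻¹) * (x * y) := by group
          _ = z * (x * y) := by rw [h]
      rw [← mul_assoc, e]; group
  | trans h₁ _ ih₁ ih₂ =>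
    rcases ih₁ hl with h | h <;>
      rcases ih₂ (fun x hx => hl x (h₁.mem_iff.mpr hx)) with h' | h'
    · left; rw [h, h']
    · right; rw [h, h']
    · right; rw [h, h']
    · left; rw [h, h', ← mul_assoc, hzz, one_mul]

/-- A nonabelian subgroup of an extraspecial `2`-subgroup whose centre lies in the centre of the
big group is extraspecial. -/
theorem es_sub {G : Type*} [Group G] [Finite G] (Q : Subgroup G) (hE : IsExtraspecial 2 ↥Q)
    {z : G} (hall : ∀ x ∈ (Subgroup.center ↥Q).map Q.subtype, x = 1 ∨ x = z)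
    (hzc : ∀ q ∈ Q, z * q = q * z) (P : Subgroup G) (hPQ : P ≤ Q)
    (hcen : ∀ x ∈ P, (∀ y ∈ P, x * y = y * x) → x = 1 ∨ x = z)
    (hna : ∃ a ∈ P, ∃ b ∈ P, a * b ≠ b * a) : IsExtraspecial 2 ↥P := by
  haveI : Fact (Nat.Prime 2) := ⟨Nat.prime_two⟩
  obtain ⟨a, ha, b, hb, hab⟩ := hna
  have hcz : a * b * a⁻¹ * b⁻¹ = z := by
    rcases les_comm Q hE hall (hPQ ha) (hPQ hb) with h | h
    · exfalso; apply hab
      calc a * b = (a * b * a⁻¹ * b⁻¹) * (b * a) := by group
        _ = b * a := by rw [h, one_mul]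
    · exact h
  have hz1 : z ≠ 1 := by
    intro h
    apply hab
    calc a * b = (a * b * a⁻¹ * b⁻¹) * (b * a) := by group
      _ = b * a := by rw [hcz, h, one_mul]
  have hzP : z ∈ P := by
    rw [← hcz]
    exact P.mul_mem (P.mul_mem (P.mul_mem ha hb) (P.inv_mem ha)) (P.inv_mem hb)
  have hPp : IsPGroup 2 ↥P := hE.1.1.to_le hPQ
  have hcenter : ∀ x : ↥P, x ∈ Subgroup.center ↥P ↔ ((x : G) = 1 ∨ (x : G) = z) := by
    intro x
    constructor
    · intro hx
      rw [Subgroup.mem_center_iff] at hx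
      apply hcen x x.2
      intro y hy
      have := congrArg Subtype.val (hx ⟨y, hy⟩)
      simpa using this.symm
    · rintro (h | h)
      · have e : x = 1 := Subtype.ext h
        rw [e]; exact Subgroup.one_mem _
      · rw [Subgroup.mem_center_iff]
        intro y
        apply Subtype.ext
        rw [Subgroup.coe_mul, Subgroup.coe_mul, h]
        exact (hzc y (hPQ y.2)).symm
  have hcomm_le : commutator ↥P ≤ Subgroup.center ↥P := by
    rw [commutator_eq_closure, Subgroup.closure_le]
    rintro x ⟨c, d, rfl⟩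
    rw [SetLike.mem_coe, hcenter]
    have := les_comm Q hE hall (hPQ c.2) (hPQ d.2)
    simpa [commutatorElement_def] using this
  have hcenter_le : Subgroup.center ↥P ≤ commutator ↥P := by
    intro x hx
    rcases (hcenter x).mp hx with h | h
    · have e : x = 1 := Subtype.ext h
      rw [e]; exact Subgroup.one_mem _
    · have e : x = ⁅(⟨a, ha⟩ : ↥P), (⟨b, hb⟩ : ↥P)⁆ := by
        apply Subtype.ext
        rw [h, ← hcz]
        simp [commutatorElement_def]
      rw [e]
      exact Subgroup.commutator_mem_commutator (Subgroup.mem_top _) (Subgroup.mem_top _)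
  have hcomm : commutator ↥P = Subgroup.center ↥P := le_antisymm hcomm_le hcenter_le
  have hfr : frattini ↥P = Subgroup.center ↥P := by
    apply le_antisymm
    · apply Cfsg.Agent.Lib.Helper18.frattini_le_of_elementary (p := 2)
      · intro c d
        have := hcomm_le
          (Subgroup.commutator_mem_commutator (Subgroup.mem_top c) (Subgroup.mem_top d))
        simpa [commutatorElement_def] using this
      · intro c
        rw [hcenter]
        have := es_sq Q hE hall (hPQ c.2)
        simpa [pow_two] using this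
    · rw [← hcomm]
      intro x hx
      unfold frattini Order.radical
      simp only [Subgroup.mem_iInf]
      intro M hM
      exact Cfsg.Agent.Lib.Helper18.commutator_le_of_isCoatom hPp hM hx
  refine ⟨⟨hPp, hfr, hcomm⟩, ?_⟩
  rw [Nat.card_eq_two_iff]
  refine ⟨⟨1, Subgroup.one_mem _⟩, ⟨⟨z, hzP⟩, (hcenter _).mpr (Or.inr rfl)⟩, ?_, ?_⟩
  · intro h
    apply hz1
    have := congrArg (fun x : ↥(Subgroup.center ↥P) => ((x : ↥P) : G)) h
    simpa using this.symm
  · ext x
    simp only [Set.mem_insert_iff, Set.mem_singleton_iff, Set.mem_univ, iff_true]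
    rcases (hcenter x.1).mp x.2 with h | h
    · left; apply Subtype.ext; apply Subtype.ext; simpa using h
    · right; apply Subtype.ext; apply Subtype.ext; simpa using h

end Cfsg.Agent.Lib.Helper28
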