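import Mathlib
import Cfsg.Prelude.Def_GeometricClasses

set_option autoImplicit false

namespace Cfsg.Agent.Lib.Helper28

open Cfsg
open scoped Matrix

variable {F : Type*} [Field F] {n : ℕ}

/-- An element of the general linear group with prescribed action and nonzero determinant. -/
theorem exists_gl_of_linearMap (φ : (Fin n → F) →ₗ[F] (Fin n → F)) (hdet : LinearMap.det φ ≠ 0) :
    ∃ g : Matrix.GeneralLinearGroup (Fin n) F,
      (∀ v, (g : Matrix (Fin n) (Fin n) F) *ᵥ v = φ v) ∧
      ((Matrix.GeneralLinearGroup.det g : Fˣ) : F) = LinearMap.det φ := by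
  have h1 : (LinearMap.toMatrix' φ).det = LinearMap.det φ := LinearMap.det_toMatrix' φ
  refine ⟨Matrix.GeneralLinearGroup.mkOfDetNeZero (LinearMap.toMatrix' φ) (by rw [h1]; exact hdet), ?_, ?_⟩
  · intro v
    change (LinearMap.toMatrix' φ) *ᵥ v = φ v
    rw [← Matrix.toLin'_apply, Matrix.toLin'_toMatrix']
  · change (LinearMap.toMatrix' φ).det = _
    exact h1

theorem mem_specialLinear_iff (g : Matrix.GeneralLinearGroup (Fin n) F) :
    g ∈ Geo.specialLinear (Fin n) F ↔ ((Matrix.GeneralLinearGroup.det g : Fˣ) : F) = 1 := by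
  unfold Geo.specialLinear
  rw [MonoidHom.mem_ker]
  constructor
  · intro h; rw [h]; rfl
  · intro h; exact Units.ext h

theorem mem_subspaceStabilizer_iff (W : Submodule F (Fin n → F)) (g : Matrix.GeneralLinearGroup (Fin n) F) :
    g ∈ Geo.subspaceStabilizer W ↔ ∀ v, v ∈ W ↔ (g : Matrix (Fin n) (Fin n) F) *ᵥ v ∈ W := Iff.rfl

/-- Transvections as elements of the special linear group. -/
theorem exists_transvection (f : Module.Dual F (Fin n → F)) (a : Fin n → F) (hfa : f a = 0) :
    ∃ g : Matrix.GeneralLinearGroup (Fin n) F, g ∈ Geo.specialLinear (Fin n) F ∧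
      ∀ v, (g : Matrix (Fin n) (Fin n) F) *ᵥ v = v + f v • a := by
  have hd : LinearMap.det (LinearMap.transvection f a) = 1 := by
    rw [LinearMap.transvection.det, hfa, add_zero]
  obtain ⟨g, hg1, hg2⟩ := exists_gl_of_linearMap (LinearMap.transvection f a) (by rw [hd]; exact one_ne_zero)
  refine ⟨g, ?_, ?_⟩
  · rw [mem_specialLinear_iff, hg2, hd]
  · intro v
    rw [hg1, LinearMap.transvection.apply]

/-- Dilatransvections as elements of the general linear group. -/
theorem exists_dilatransvection (f : Module.Dual F (Fin n → F)) (a : Fin n → F) (hfa : 1 + f a ≠ 0) :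
    ∃ g : Matrix.GeneralLinearGroup (Fin n) F,
      ((Matrix.GeneralLinearGroup.det g : Fˣ) : F) = 1 + f a ∧
      ∀ v, (g : Matrix (Fin n) (Fin n) F) *ᵥ v = v + f v • a := by
  have hd : LinearMap.det (LinearMap.transvection f a) = 1 + f a := by
    rw [LinearMap.transvection.det]
  obtain ⟨g, hg1, hg2⟩ := exists_gl_of_linearMap (LinearMap.transvection f a) (by rw [hd]; exact hfa)
  refine ⟨g, ?_, ?_⟩
  · rw [hg2, hd]
  · intro v
    rw [hg1, LinearMap.transvection.apply]

/-- A functional vanishing on a subspace and taking the value one at a vector outside it. -/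
theorem exists_dual_eq_one {V : Type*} [AddCommGroup V] [Module F V] (S : Submodule F V) (u : V)
    (hu : u ∉ S) : ∃ f : Module.Dual F V, f u = 1 ∧ ∀ s ∈ S, f s = 0 := by
  obtain ⟨f, hf1, hf2⟩ := Submodule.exists_dual_map_eq_bot_of_notMem hu inferInstance
  refine ⟨(f u)⁻¹ • f, ?_, ?_⟩
  · rw [LinearMap.smul_apply, smul_eq_mul, inv_mul_cancel₀ hf1]
  · intro s hs
    have : f s ∈ S.map f := Submodule.mem_map_of_mem hs
    rw [hf2, Submodule.mem_bot] at this
    rw [LinearMap.smul_apply, this, smul_zero]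

/-- A transvection in the special linear group stabilising `W` and moving `u` to `u + a`. -/
theorem exists_transvection_stab (W : Submodule F (Fin n → F)) (u a : Fin n → F)
    (hu : u ∉ W ⊔ Submodule.span F {a}) :
    ∃ g : Matrix.GeneralLinearGroup (Fin n) F, g ∈ Geo.specialLinear (Fin n) F ∧
      g ∈ Geo.subspaceStabilizer W ∧ (g : Matrix (Fin n) (Fin n) F) *ᵥ u = u + a ∧
      ∀ w ∈ W, (g : Matrix (Fin n) (Fin n) F) *ᵥ w = w := by
  obtain ⟨f, hf1, hf2⟩ := exists_dual_eq_one (W ⊔ Submodule.span F {a}) u hu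
  have hfa : f a = 0 := hf2 a (Submodule.mem_sup_right (Submodule.mem_span_singleton_self a))
  have hfW : ∀ w ∈ W, f w = 0 := fun w hw => hf2 w (Submodule.mem_sup_left hw)
  obtain ⟨g, hg1, hg2⟩ := exists_transvection f a hfa
  refine ⟨g, hg1, ?_, ?_, ?_⟩
  · rw [mem_subspaceStabilizer_iff]
    intro v
    rw [hg2]
    constructor
    · intro hv
      rw [hfW v hv, zero_smul, add_zero]
      exact hv
    · intro hv
      have h1 : f (v + f v • a) = 0 := hfW _ hv
      rw [map_add, map_smul, hfa, smul_zero, add_zero] at h1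
      rw [h1, zero_smul, add_zero] at hv
      exact hv
  · rw [hg2, hf1, one_smul]
  · intro w hw
    rw [hg2, hfW w hw, zero_smul, add_zero]

/-- An element of the special linear group stabilising `W` but not `U`. -/
theorem exists_sl_stab_not_stab (W U : Submodule F (Fin n → F)) (u a : Fin n → F)
    (hu : u ∈ U) (ha : a ∉ U) (h : u ∉ W ⊔ Submodule.span F {a}) :
    ∃ g : Matrix.GeneralLinearGroup (Fin n) F, g ∈ Geo.specialLinear (Fin n) F ∧
      g ∈ Geo.subspaceStabilizer W ∧ g ∉ Geo.subspaceStabilizer U := by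
  obtain ⟨g, hg1, hg2, hg3, _⟩ := exists_transvection_stab W u a h
  refine ⟨g, hg1, hg2, ?_⟩
  intro hgU
  rw [mem_subspaceStabilizer_iff] at hgU
  have h1 := (hgU u).mp hu
  rw [hg3] at h1
  exact ha ((Submodule.add_mem_iff_right U hu).mp h1)

/-- An element of the special linear group not stabilising a proper nonzero subspace. -/
theorem exists_sl_not_stab (W : Submodule F (Fin n → F)) (hW0 : W ≠ ⊥) (hW1 : W ≠ ⊤) :
    ∃ g : Matrix.GeneralLinearGroup (Fin n) F, g ∈ Geo.specialLinear (Fin n) F ∧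
      g ∉ Geo.subspaceStabilizer W := by
  obtain ⟨w, hw, hw0⟩ := Submodule.exists_mem_ne_zero_of_ne_bot hW0
  obtain ⟨a, ha⟩ : ∃ a, a ∉ W := by
    by_contra hcon
    push Not at hcon
    exact hW1 ((Submodule.eq_top_iff').mpr hcon)
  have h : w ∉ (⊥ : Submodule F (Fin n → F)) ⊔ Submodule.span F {a} := by
    rw [bot_sup_eq, Submodule.mem_span_singleton]
    rintro ⟨c, hc⟩
    have hc0 : c ≠ 0 := by
      rintro rfl
      rw [zero_smul] at hc
      exact hw0 hc.symm
    apply ha
    have : a = c⁻¹ • w := by rw [← hc, smul_smul, inv_mul_cancel₀ hc0, one_smul]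
    rw [this]
    exact W.smul_mem _ hw
  obtain ⟨g, hg1, _, hg3⟩ := exists_sl_stab_not_stab ⊥ W w a hw ha h
  exact ⟨g, hg1, hg3⟩

end Cfsg.Agent.Lib.Helper28
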