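import Mathlib
import Cfsg.Prelude.Def_GeometricClasses
import Cfsg.Agent.Lib.Helper28.Transv

set_option autoImplicit false

namespace Cfsg.Agent.Lib.Helper28

open Cfsg
open scoped Matrix
open Matrix Matrix.SpecialLinearGroup

/-- The diagonal element with entries `a`, `a⁻¹` at two positions as a product of six
elementary transvections. -/
theorem diag2n_decomp {ι : Type*} [Fintype ι] [DecidableEq ι] {F : Type*} [Field F] {i j : ι}
    (hij : i ≠ j) (a : F) (ha : a ≠ 0) :
    diag2n hij a ha = SpecialLinearGroup.transvection hij a *
      SpecialLinearGroup.transvection hij.symm (- a⁻¹) *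
      SpecialLinearGroup.transvection hij a *
      SpecialLinearGroup.transvection hij (-1) *
      SpecialLinearGroup.transvection hij.symm 1 *
      SpecialLinearGroup.transvection hij (-1) := by
  apply coeMonoidHom_injective
  simp only [map_mul, coeMonoidHom_apply, diag2n_coe, transvection_coe]
  have e1 : ∀ (c d : F), single i j c * single i j d = 0 := fun c d => single_mul_single_of_ne c i j i hij.symm d
  have e2 : ∀ (c d : F), single j i c * single j i d = 0 := fun c d => single_mul_single_of_ne c j i j hij d
  have e3 : ∀ (c d : F), single i j c * single j i d = single i i (c * d) := fun c d => single_mul_single_same c i j i d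
  have e4 : ∀ (c d : F), single j i c * single i j d = single j j (c * d) := fun c d => single_mul_single_same c j i j d
  have e5 : ∀ (c d : F), single i i c * single i j d = single i j (c * d) := fun c d => single_mul_single_same c i i j d
  have e6 : ∀ (c d : F), single i i c * single j i d = 0 := fun c d => single_mul_single_of_ne c i i j hij d
  have e7 : ∀ (c d : F), single j j c * single j i d = single j i (c * d) := fun c d => single_mul_single_same c j j i d
  have e8 : ∀ (c d : F), single j j c * single i j d = 0 := fun c d => single_mul_single_of_ne c j j i hij.symm d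
  simp only [mul_add, add_mul, mul_one, one_mul, e1, e2, e3, e4, e5, e6, e7, e8, add_zero, zero_add, mul_assoc]
  have hji : j ≠ i := hij.symm
  ext k l
  simp only [Matrix.add_apply, Matrix.one_apply, Matrix.single_apply, Matrix.diagonal_apply]
  by_cases hkl : k = l
  · subst hkl
    by_cases hki : i = k
    · subst hki
      simp [hji]
      field_simp
      ring
    · by_cases hkj : j = k
      · subst hkj
        simp [hij, hji]
        field_simp
        ring
      · have h1 : ¬ k = i := fun h => hki h.symm
        have h2 : ¬ k = j := fun h => hkj h.symm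
        simp [hki, hkj, h1, h2]
  · have hlk : ¬ l = k := fun h => hkl h.symm
    by_cases hki : i = k <;> by_cases hkj : j = k <;> by_cases hli : i = l <;> by_cases hlj : j = l <;>
      simp_all

variable {F : Type*} [Field F] {n : ℕ}

/-- The element acts as a transvection `v ↦ v + f v • a` with `f a = 0`. -/
def IsTransvAction (g : Matrix.GeneralLinearGroup (Fin n) F) : Prop :=
  ∃ (f : Module.Dual F (Fin n → F)) (a : Fin n → F), f a = 0 ∧
    ∀ v, (g : Matrix (Fin n) (Fin n) F) *ᵥ v = v + f v • a

theorem toGL_mem_specialLinear (A : Matrix.SpecialLinearGroup (Fin n) F) :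
    Matrix.SpecialLinearGroup.toGL A ∈ Geo.specialLinear (Fin n) F := by
  unfold Geo.specialLinear
  rw [MonoidHom.mem_ker]
  exact Matrix.SpecialLinearGroup.coeToGL_det A

theorem isTransvAction_elementary {i j : Fin n} (hij : i ≠ j) (c : F) :
    IsTransvAction (Matrix.SpecialLinearGroup.toGL (SpecialLinearGroup.transvection hij c)) := by
  refine ⟨c • LinearMap.proj j, Pi.single i 1, ?_, ?_⟩
  · simp [hij.symm]
  · intro v
    rw [Matrix.SpecialLinearGroup.coe_GL_coe_matrix, transvection_coe, Matrix.add_mulVec,
      Matrix.one_mulVec, Matrix.single_mulVec_eq]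
    simp

/-- A subgroup containing all transvections of the special linear group contains it. -/
theorem specialLinear_le_of_transv (hn : 2 ≤ n) (M : Subgroup (Matrix.GeneralLinearGroup (Fin n) F))
    (h : ∀ g ∈ Geo.specialLinear (Fin n) F, IsTransvAction g → g ∈ M) :
    Geo.specialLinear (Fin n) F ≤ M := by
  haveI : Nontrivial (Fin n) := Fin.nontrivial_iff_two_le.mpr hn
  have key : ∀ A : Matrix.SpecialLinearGroup (Fin n) F, Matrix.SpecialLinearGroup.toGL A ∈ M := by
    intro A
    have ht : ∀ (i j : Fin n) (hij : i ≠ j) (c : F),
        Matrix.SpecialLinearGroup.toGL (SpecialLinearGroup.transvection hij c) ∈ M :=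
      fun i j hij c => h _ (toGL_mem_specialLinear _) (isTransvAction_elementary hij c)
    refine diagonal_transvection_induction'
      (fun A => Matrix.SpecialLinearGroup.toGL A ∈ M) A ?_ ht ?_
    · intro i j hij c hc
      rw [diag2n_decomp hij c hc]
      simp only [map_mul]
      exact M.mul_mem (M.mul_mem (M.mul_mem (M.mul_mem (M.mul_mem (ht _ _ _ _) (ht _ _ _ _))
        (ht _ _ _ _)) (ht _ _ _ _)) (ht _ _ _ _)) (ht _ _ _ _)
    · intro A B hA hB
      simp only [map_mul]
      exact M.mul_mem hA hB
  intro g hg
  have hdet : (g : Matrix (Fin n) (Fin n) F).det = 1 := by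
    have := (mem_specialLinear_iff g).mp hg
    simpa using this
  have : g = Matrix.SpecialLinearGroup.toGL ⟨(g : Matrix (Fin n) (Fin n) F), hdet⟩ := Units.ext rfl
  rw [this]
  exact key _

end Cfsg.Agent.Lib.Helper28
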