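import Mathlib
import Cfsg.Prelude.Def_Sporadic_a
import Cfsg.Agent.Lib.Helper4.Golay
import Cfsg.Agent.Lib.Helper28.Words

set_option autoImplicit false

namespace Cfsg.Agent.Lib.Helper28

open Cfsg

theorem one_mem_golay : (1 : GolayPt → ZMod 2) ∈ golayCode :=
  Submodule.subset_span (Or.inr rfl)

theorem golay_weight (c : GolayPt → ZMod 2) (hc : c ∈ golayCode) :
    (support₂ c).card = 0 ∨ (support₂ c).card = 8 ∨ (support₂ c).card = 12 ∨
      (support₂ c).card = 16 ∨ (support₂ c).card = 24 := by
  have := Cfsg.Agent.Lib.Helper4.Golay.weights c hc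
  rw [hammingNorm_eq_card] at this
  exact this

theorem card_golayPt : Fintype.card GolayPt = 24 := by
  decide

/-- The word of an integer vector modulo 2. -/
def zword (y : GolayPt → ℤ) : GolayPt → ZMod 2 := fun i => ((y i : ℤ) : ZMod 2)

theorem zword_add (y y' : GolayPt → ℤ) : zword (y + y') = zword y + zword y' := by
  funext i
  simp [zword]

theorem zword_neg (y : GolayPt → ℤ) : zword (-y) = - zword y := by
  funext i
  simp [zword]

theorem zword_zero : zword 0 = 0 := by
  funext i
  simp [zword]

theorem zword_const_add (a : ℤ) (y : GolayPt → ℤ) :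
    zword (fun i => a + y i) = (a : ZMod 2) • (1 : GolayPt → ZMod 2) + zword y := by
  funext i
  simp [zword]

theorem mem_support₂_zword (y : GolayPt → ℤ) (i : GolayPt) :
    i ∈ support₂ (zword y) ↔ ¬ (2 : ℤ) ∣ y i := by
  rw [mem_support₂, ← z2_ne_zero_iff]
  unfold zword
  rw [Ne, ZMod.intCast_zmod_eq_zero_iff_dvd]
  norm_num

/-- The structure of the vectors of the lattice: a common residue `m` modulo 2, a code word
carried by the half-differences, and the congruence of the coordinate sum. -/
theorem leech_struct (x : GolayPt → ℤ) (hx : x ∈ leechLattice) :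
    ∃ (m : ℤ) (y : GolayPt → ℤ), (∀ i, x i = m + 2 * y i) ∧ zword y ∈ golayCode ∧
      (∑ i, x i) ≡ 4 * m [ZMOD 8] := by
  unfold leechLattice at hx
  refine AddSubgroup.closure_induction (p := fun x _ => ∃ (m : ℤ) (y : GolayPt → ℤ),
    (∀ i, x i = m + 2 * y i) ∧ zword y ∈ golayCode ∧ (∑ i, x i) ≡ 4 * m [ZMOD 8])
    ?_ ?_ ?_ ?_ hx
  · intro x hx
    obtain ⟨m, hpar, hsum, hsets⟩ := hx
    have hdiv : ∀ i, (2 : ℤ) ∣ x i - m := by
      intro i
      exact Int.modEq_iff_dvd.mp (hpar i).symm
    refine ⟨m, fun i => (x i - m) / 2, ?_, ?_, hsum⟩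
    · intro i
      rw [Int.mul_ediv_cancel' (hdiv i)]
      ring
    · obtain ⟨c, hc, hsupp⟩ := hsets (m + 2)
      have : zword (fun i => (x i - m) / 2) = c := by
        apply support₂_injective
        rw [hsupp]
        ext i
        rw [mem_support₂_zword, Finset.mem_filter]
        have := hdiv i
        simp only [Finset.mem_univ, true_and]
        unfold Int.ModEq
        omega
      rw [this]
      exact hc
  · refine ⟨0, 0, ?_, ?_, ?_⟩
    · intro i
      simp
    · rw [zword_zero]
      exact Submodule.zero_mem _
    · simp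
  · intro x x' _ _ ih ih'
    obtain ⟨m, y, h1, h2, h3⟩ := ih
    obtain ⟨m', y', h1', h2', h3'⟩ := ih'
    refine ⟨m + m', y + y', ?_, ?_, ?_⟩
    · intro i
      rw [Pi.add_apply, Pi.add_apply, h1, h1']
      ring
    · rw [zword_add]
      exact Submodule.add_mem _ h2 h2'
    · have : ∑ i, (x + x') i = ∑ i, x i + ∑ i, x' i := by
        simp [Finset.sum_add_distrib]
      rw [this, mul_add]
      exact Int.ModEq.add h3 h3'
  · intro x _ ih
    obtain ⟨m, y, h1, h2, h3⟩ := ih
    refine ⟨-m, -y, ?_, ?_, ?_⟩
    · intro i
      rw [Pi.neg_apply, Pi.neg_apply, h1]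
      ring
    · rw [zword_neg]
      exact Submodule.neg_mem _ h2
    · have : ∑ i, (-x) i = -∑ i, x i := by
        simp [Finset.sum_neg_distrib]
      rw [this, mul_neg]
      exact Int.ModEq.neg h3

theorem int_one_le_sq (t : ℤ) (ht : t ≠ 0) : 1 ≤ t ^ 2 := by
  rcases lt_or_gt_of_ne ht with h | h <;> nlinarith

theorem sqNorm_ge_single (x : GolayPt → ℤ) (j : GolayPt) : x j ^ 2 ≤ sqNorm x := by
  unfold sqNorm
  exact Finset.single_le_sum (f := fun i => x i ^ 2) (fun i _ => sq_nonneg _) (Finset.mem_univ j)

theorem sqNorm_ge_pair (x : GolayPt → ℤ) (j k : GolayPt) (hjk : j ≠ k) :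
    x j ^ 2 + x k ^ 2 ≤ sqNorm x := by
  classical
  unfold sqNorm
  rw [← Finset.sum_pair (f := fun i => x i ^ 2) hjk]
  exact Finset.sum_le_sum_of_subset_of_nonneg (Finset.subset_univ _) (fun i _ _ => sq_nonneg _)

/-- Non-zero vectors of the lattice have sum of squares at least 32. -/
theorem leech_min_norm (x : GolayPt → ℤ) (hx : x ∈ leechLattice) (hx0 : x ≠ 0) :
    32 ≤ sqNorm x := by
  classical
  obtain ⟨m, y, hxy, hc, hsum⟩ := leech_struct x hx
  have hc' : ∀ a : ℤ, zword (fun i => a + y i) ∈ golayCode := by
    intro a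
    rw [zword_const_add]
    exact Submodule.add_mem _ (Submodule.smul_mem _ _ one_mem_golay) hc
  rcases Int.even_or_odd' m with ⟨a, ha | ha⟩
  · have hx2 : ∀ i, x i = 2 * (a + y i) := by
      intro i
      rw [hxy, ha]
      ring
    by_cases hz : zword (fun i => a + y i) = 0
    · have hev : ∀ i, (2 : ℤ) ∣ a + y i := by
        intro i
        have h1 : i ∉ support₂ (zword (fun i => a + y i)) := by
          rw [hz, support₂_zero]
          exact Finset.notMem_empty i
        rw [mem_support₂_zword] at h1
        exact not_not.mp h1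
      obtain ⟨u, hu⟩ : ∃ u : GolayPt → ℤ, ∀ i, x i = 4 * u i := by
        refine ⟨fun i => (a + y i) / 2, fun i => ?_⟩
        have := hev i
        show x i = 4 * ((a + y i) / 2)
        rw [hx2]
        omega
      have hsumu : (2 : ℤ) ∣ ∑ i, u i := by
        have h1 : ∑ i, x i = 4 * ∑ i, u i := by
          rw [Finset.mul_sum]
          exact Finset.sum_congr rfl (fun i _ => hu i)
        rw [h1, ha] at hsum
        unfold Int.ModEq at hsum
        omega
      obtain ⟨j, hj⟩ : ∃ j, x j ≠ 0 := by
        by_contra hcon
        push Not at hcon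
        exact hx0 (funext hcon)
      have huj : u j ≠ 0 := by
        intro h
        apply hj
        rw [hu, h, mul_zero]
      by_cases hbig : 2 ≤ |u j|
      · have h1 := sqNorm_ge_single x j
        rw [hu j] at h1
        have h2 : 4 ≤ u j ^ 2 := by
          have := sq_abs (u j)
          nlinarith [abs_nonneg (u j)]
        nlinarith
      · obtain ⟨k, hkj, hk⟩ : ∃ k, k ≠ j ∧ u k ≠ 0 := by
          by_contra hcon
          push Not at hcon
          have h1 : ∑ i, u i = u j :=
            Finset.sum_eq_single j (fun b _ hb => hcon b hb)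
              (fun h => absurd (Finset.mem_univ j) h)
          rw [h1] at hsumu
          have h2 : |u j| < 2 := not_le.mp hbig
          rw [abs_lt] at h2
          omega
        have h1 := sqNorm_ge_pair x j k (Ne.symm hkj)
        rw [hu j, hu k] at h1
        have h2 := int_one_le_sq (u j) huj
        have h3 := int_one_le_sq (u k) hk
        nlinarith
    · have hw := golay_weight _ (hc' a)
      have hw0 : (support₂ (zword (fun i => a + y i))).card ≠ 0 := by
        rw [Ne, Finset.card_eq_zero, support₂_eq_empty_iff]
        exact hz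
      have hw8 : 8 ≤ (support₂ (zword (fun i => a + y i))).card := by omega
      have h1 : ∀ i ∈ support₂ (zword (fun i => a + y i)), (4 : ℤ) ≤ x i ^ 2 := by
        intro i hi
        rw [mem_support₂_zword] at hi
        rw [hx2]
        have ht : a + y i ≠ 0 := by
          intro h
          apply hi
          rw [h]
          exact dvd_zero _
        have := int_one_le_sq (a + y i) ht
        nlinarith
      unfold sqNorm
      calc (32 : ℤ) ≤ ∑ i ∈ support₂ (zword (fun i => a + y i)), (4 : ℤ) := by
            rw [Finset.sum_const, nsmul_eq_mul]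
            have : (8 : ℤ) ≤ ((support₂ (zword (fun i => a + y i))).card : ℤ) := by
              exact_mod_cast hw8
            linarith
        _ ≤ ∑ i ∈ support₂ (zword (fun i => a + y i)), x i ^ 2 := Finset.sum_le_sum h1
        _ ≤ ∑ i, x i ^ 2 :=
            Finset.sum_le_sum_of_subset_of_nonneg (Finset.subset_univ _)
              (fun i _ _ => sq_nonneg _)
  · have hx2 : ∀ i, x i = 1 + 2 * (a + y i) := by
      intro i
      rw [hxy, ha]
      ring
    have hodd : ∀ i, (1 : ℤ) ≤ x i ^ 2 := by
      intro i
      apply int_one_le_sq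
      rw [hx2]
      omega
    by_cases hbig : ∃ j, 9 ≤ x j ^ 2
    · obtain ⟨j, hj⟩ := hbig
      unfold sqNorm
      rw [← Finset.add_sum_erase Finset.univ (fun i => x i ^ 2) (Finset.mem_univ j)]
      have h1 : (23 : ℤ) ≤ ∑ i ∈ Finset.univ.erase j, x i ^ 2 := by
        calc (23 : ℤ) = ∑ i ∈ Finset.univ.erase j, (1 : ℤ) := by
              rw [Finset.sum_const, Finset.card_erase_of_mem (Finset.mem_univ j),
                Finset.card_univ, card_golayPt]
              norm_num
          _ ≤ _ := Finset.sum_le_sum (fun i _ => hodd i)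
      linarith
    · push Not at hbig
      exfalso
      have hval : ∀ i, a + y i = 0 ∨ a + y i = -1 := by
        intro i
        have h1 := hbig i
        rw [hx2] at h1
        have h2 : -2 < a + y i := by
          by_contra h
          push Not at h
          nlinarith
        have h3 : a + y i < 1 := by
          by_contra h
          push Not at h
          nlinarith
        omega
      have hxi : ∀ i, x i
          = 1 - 2 * (if i ∈ support₂ (zword (fun i => a + y i)) then 1 else 0) := by
        intro i
        rw [hx2]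
        rcases hval i with h | h
        · have : i ∉ support₂ (zword (fun i => a + y i)) := by
            rw [mem_support₂_zword, h]
            simp
          rw [if_neg this, h]
          ring
        · have : i ∈ support₂ (zword (fun i => a + y i)) := by
            rw [mem_support₂_zword, h]
            norm_num
          rw [if_pos this, h]
          ring
      have hS : ∑ i, x i = 24 - 2 * ((support₂ (zword (fun i => a + y i))).card : ℤ) := by
        rw [Finset.sum_congr rfl (fun i _ => hxi i), Finset.sum_sub_distrib, ← Finset.mul_sum,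
          Finset.sum_ite_mem, Finset.univ_inter, Finset.sum_const, Finset.sum_const,
          Finset.card_univ, card_golayPt]
        simp
      have hw := golay_weight _ (hc' a)
      rw [hS, ha] at hsum
      unfold Int.ModEq at hsum
      omega

theorem sqNorm_sub (x y : GolayPt → ℤ) :
    sqNorm (x - y) = sqNorm x + sqNorm y - 2 * dotInt x y := by
  unfold sqNorm dotInt
  rw [Finset.mul_sum, ← Finset.sum_add_distrib, ← Finset.sum_sub_distrib]
  apply Finset.sum_congr rfl
  intro i _
  rw [Pi.sub_apply]
  ring

theorem sqNorm_add (x y : GolayPt → ℤ) :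
    sqNorm (x + y) = sqNorm x + sqNorm y + 2 * dotInt x y := by
  unfold sqNorm dotInt
  rw [Finset.mul_sum, ← Finset.sum_add_distrib, ← Finset.sum_add_distrib]
  apply Finset.sum_congr rfl
  intro i _
  rw [Pi.add_apply]
  ring

theorem sqNorm_two_nsmul (z : GolayPt → ℤ) : sqNorm (2 • z) = 4 * sqNorm z := by
  unfold sqNorm
  rw [Finset.mul_sum]
  apply Finset.sum_congr rfl
  intro i _
  rw [Pi.smul_apply, two_nsmul]
  ring

theorem sqNorm_neg (x : GolayPt → ℤ) : sqNorm (-x) = sqNorm x := by
  unfold sqNorm
  apply Finset.sum_congr rfl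
  intro i _
  rw [Pi.neg_apply]
  ring

/-- Two vectors of sum of squares at most 64, congruent modulo twice the lattice, and neither
equal nor opposite, both have sum of squares 64 and are orthogonal. -/
theorem leech_congr (x y z : GolayPt → ℤ) (hy : y ∈ leechLattice) (hz : z ∈ leechLattice)
    (hxn : sqNorm x ≤ 64) (hyn : sqNorm y ≤ 64) (hc : x - y = 2 • z) (hne : x ≠ y)
    (hne' : x ≠ -y) : sqNorm x = 64 ∧ sqNorm y = 64 ∧ dotInt x y = 0 := by
  have hz0 : z ≠ 0 := by
    intro h
    apply hne
    rw [h, smul_zero] at hc
    exact sub_eq_zero.mp hc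
  have hc2 : x + y = 2 • (y + z) := by
    have : x = y + 2 • z := by rw [← hc]; abel
    rw [this, smul_add, two_nsmul, two_nsmul]
    abel
  have hz0' : y + z ≠ 0 := by
    intro h
    apply hne'
    rw [h, smul_zero] at hc2
    exact eq_neg_of_add_eq_zero_left hc2
  have h1 := leech_min_norm z hz hz0
  have h2 := leech_min_norm (y + z) (leechLattice.add_mem hy hz) hz0'
  have h3 := sqNorm_sub x y
  have h4 := sqNorm_add x y
  rw [hc, sqNorm_two_nsmul] at h3
  rw [hc2, sqNorm_two_nsmul] at h4
  refine ⟨by omega, by omega, by omega⟩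

end Cfsg.Agent.Lib.Helper28
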